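import Groth.Agent.ComodRes41.Lift
import Groth.Agent.RegLoc6.Pd
import Groth.Agent.H9Misc.DRingGlobalDim
import Mathlib.RingTheory.RegularLocalRing.Defs

/-!
# Comodules over regular rings of dimension at most two are quotients of projective ones
-/

universe u

open TensorProduct HopfRep

namespace Groth.Agent.ComodRes41

set_option linter.style.haveILetI false

open RegLoc6

variable {R : Type u} [CommRing R] [IsRegularRing R]

theorem pdLE_two (hdim : ringKrullDim R ≤ 2) (M : Type u) [AddCommGroup M] [Module R M] : PdLE R 2 M :=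
  H9Misc.DRingGlobalDim.pd_le (fun p => inferInstance) 2 (by exact_mod_cast hdim) (ModuleCat.of R M)

theorem pdLE_one_of_injective (hdim : ringKrullDim R ≤ 2) {M F : Type u} [AddCommGroup M] [Module R M]
    [AddCommGroup F] [Module R F] [Module.Projective R F] (f : M →ₗ[R] F) (hf : Function.Injective f) :
    PdLE R 1 M := by
  let g := (LinearMap.range f).mkQ
  have h1 : PdLE R 1 (LinearMap.ker g) :=
    pdLE_ker g (Submodule.mkQ_surjective _) (pdLE_two hdim _) (pdLE_of_projective 1)
  exact pdLE_of_equiv (((LinearEquiv.ofInjective f hf).trans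
    (LinearEquiv.ofEq _ _ (Submodule.ker_mkQ _).symm)).symm) h1

theorem projective_ker (hdim : ringKrullDim R ≤ 2) {P Q : Type u} [AddCommGroup P] [Module R P]
    [AddCommGroup Q] [Module R Q] [Module.Projective R P] [Module.Projective R Q] (h : P →ₗ[R] Q) :
    Module.Projective R (LinearMap.ker h) := by
  have h1 : PdLE R 1 (LinearMap.range h) :=
    pdLE_one_of_injective hdim (LinearMap.range h).subtype Subtype.val_injective
  have h0 : PdLE R 0 (LinearMap.ker h.rangeRestrict) :=
    pdLE_ker _ h.surjective_rangeRestrict h1 (pdLE_of_projective 0)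
  rw [LinearMap.ker_rangeRestrict] at h0
  exact pdLE_zero_iff.1 h0

theorem projective_dual (hdim : ringKrullDim R ≤ 2) (X : Type u) [AddCommGroup X] [Module R X]
    [Module.Finite R X] : Module.Projective R (Module.Dual R X) := by
  obtain ⟨n, g, hg⟩ := Module.Finite.exists_fin' R X
  obtain ⟨m, g', hg'⟩ := Module.Finite.exists_fin' R (LinearMap.ker g)
  have e : LinearMap.range g.dualMap = LinearMap.ker ((LinearMap.ker g).subtype ∘ₗ g').dualMap := by
    rw [LinearMap.ker_dualMap_eq_dualAnnihilator_range, LinearMap.range_comp, LinearMap.range_eq_top.2 hg',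
      Submodule.map_top, Submodule.range_subtype]
    exact LinearMap.range_dualMap_eq_dualAnnihilator_ker_of_surjective g hg
  haveI := projective_ker hdim ((LinearMap.ker g).subtype ∘ₗ g').dualMap
  exact Module.Projective.of_equiv ((LinearEquiv.ofInjective _
    (LinearMap.dualMap_injective_of_surjective hg)).trans (LinearEquiv.ofEq _ _ e)).symm

/-- Over a regular ring of dimension at most two every finite comodule over a flat coalgebra is a quotient of
a finite projective comodule. -/
theorem exists_cover_dim_two (hdim : ringKrullDim R ≤ 2) {C : Type u} [AddCommGroup C] [Module R C]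
    [Coalgebra R C] [Module.Flat R C] (F : Type u) [AddCommGroup F] [Module R F] [Comod R C F] [Module.Finite R F] :
    ∃ (V : Type u) (_ : AddCommGroup V) (_ : Module R V) (_ : Comod R C V) (φ : V →ₗ[R] F),
      Module.Finite R V ∧ Module.Projective R V ∧ Function.Surjective φ ∧
        Comod.coact (k := R) (A := C) ∘ₗ φ = φ.rTensor C ∘ₗ Comod.coact (k := R) (A := C) (V := V) := by
  haveI : IsNoetherianRing R := inferInstance
  obtain ⟨n, π, hπ⟩ := Module.Finite.exists_fin' R F
  obtain ⟨U, hU, hle, hfg, hsurj⟩ := exists_fg_pre (C := C) π hπ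
  haveI : Module.Finite R U := Module.Finite.iff_fg.2 hfg
  letI cU : Comod R C U := ComodSub.Comod.restr inferInstance U hU
  haveI : Module.Flat R ((Fin n → R) ⊗[R] C) := inferInstance
  haveI : Module.FinitePresentation R U := Module.finitePresentation_of_finite R U
  let j : U →ₗ[R] (Fin n → R) ⊗[R] C := U.subtype
  obtain ⟨l, a, b, hab⟩ := Module.Flat.exists_factorization_of_finitePresentation (R := R) j
  have ha : Function.Injective a := by
    intro x y hxy
    apply Subtype.val_injective
    show j x = j y
    rw [hab, LinearMap.comp_apply, LinearMap.comp_apply, hxy]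
  obtain ⟨m, π', hπ'⟩ := Module.Finite.exists_fin' R U
  haveI : Module.Flat R (LinearMap.ker π') :=
    haveI : Module.Projective R (LinearMap.ker π') :=
      pdLE_zero_iff.1 (pdLE_ker π' hπ' (pdLE_one_of_injective hdim a ha) (pdLE_of_projective 0))
    inferInstance
  obtain ⟨V, _, _, cV, ψ, h1, h2, h3, h4⟩ :=
    exists_projective_cover (C := C) π' hπ' fun X _ _ _ => projective_dual hdim X
  have hq : Comod.coact ∘ₗ (toBase π ∘ₗ U.subtype) = (toBase π ∘ₗ U.subtype).rTensor C ∘ₗ cU.coact :=
    isComodHom_toBase π hU hle
  refine ⟨V, inferInstance, inferInstance, cV, (toBase π ∘ₗ U.subtype) ∘ₗ ψ, h1, h2, hsurj.comp h3, ?_⟩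
  rw [← LinearMap.comp_assoc, hq, LinearMap.comp_assoc, h4, ← LinearMap.comp_assoc, ← LinearMap.rTensor_comp]

end Groth.Agent.ComodRes41
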