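import Groth.Prelude.Def_ComodSub
import Groth.Agent.S3032
import Groth.Agent.FlatMisc.RingPullback
import Mathlib.RingTheory.Flat.EquationalCriterion
import Mathlib.LinearAlgebra.Dual.Lemmas
import Mathlib.Algebra.Module.Projective

/-!
# Covering a comodule by a comodule inside a cofree one

For a presentation `π : P → F` of a comodule, the preimage of the coaction inside the cofree comodule
`P ⊗ C` is a subcomodule mapping onto `F`, and it is flat when `P` and the kernel of `π` are flat.
-/

universe u

open TensorProduct HopfRep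

namespace Groth.Agent.ComodRes41

set_option linter.style.haveILetI false

variable {R : Type u} [CommRing R] {C : Type u} [AddCommGroup C] [Module R C] [Coalgebra R C]
  {F : Type u} [AddCommGroup F] [Module R F] [Comod R C F]
  {P : Type u} [AddCommGroup P] [Module R P]

/-- Applying the counit to the last factor. -/
noncomputable def sliceε (P : Type u) [AddCommGroup P] [Module R P] : P ⊗[R] C →ₗ[R] P :=
  (TensorProduct.rid R P).toLinearMap ∘ₗ (CoalgebraStruct.counit (R := R) (A := C)).lTensor P

theorem sliceε_tmul (p : P) (c : C) : sliceε (R := R) P (p ⊗ₜ[R] c) = Coalgebra.counit (R := R) c • p := by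
  simp [sliceε]

theorem sliceε_rTensor {Q : Type u} [AddCommGroup Q] [Module R Q] (f : P →ₗ[R] Q) (x : P ⊗[R] C) :
    sliceε (R := R) Q (f.rTensor C x) = f (sliceε (R := R) P x) := by
  induction x using TensorProduct.induction_on with
  | zero => simp
  | tmul p c => simp [sliceε_tmul]
  | add a b ha hb => simp only [map_add, ha, hb]

theorem sliceε_coact (e : F) : sliceε (R := R) F (Comod.coact (k := R) (A := C) e) = e := by
  have := congrArg (TensorProduct.rid R F)
    (LinearMap.congr_fun (Comod.counit_comp (k := R) (A := C) (V := F)) e)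
  simpa [sliceε] using this

theorem coactAux_rTensor {Q : Type u} [AddCommGroup Q] [Module R Q] (f : P →ₗ[R] Q) (x : P ⊗[R] C) :
    (f.rTensor C).rTensor C (Hoch.Ind.coactAux R C P x) = Hoch.Ind.coactAux R C Q (f.rTensor C x) := by
  induction x using TensorProduct.induction_on with
  | zero => simp
  | tmul p c =>
    rw [LinearMap.rTensor_tmul, Hoch.Ind.coactAux_tmul, Hoch.Ind.coactAux_tmul]
    induction (Coalgebra.comul (R := R) c) using TensorProduct.induction_on with
    | zero => simp
    | tmul a b => simp
    | add a b ha hb => simp only [TensorProduct.tmul_add, map_add, ha, hb]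
  | add a b ha hb => simp only [map_add, ha, hb]

theorem sliceε_rTensor_coactAux (x : P ⊗[R] C) :
    (sliceε (R := R) (C := C) P).rTensor C (Hoch.Ind.coactAux R C P x) = x := by
  induction x using TensorProduct.induction_on with
  | zero => simp
  | tmul p c =>
    rw [Hoch.Ind.coactAux_tmul]
    have key : ∀ z : C ⊗[R] C, (sliceε (R := R) (C := C) P).rTensor C
        ((TensorProduct.assoc R P C C).symm (p ⊗ₜ z)) =
        p ⊗ₜ TensorProduct.lid R C ((Coalgebra.counit (R := R) (A := C)).rTensor C z) := by
      intro z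
      induction z using TensorProduct.induction_on with
      | zero => simp
      | tmul a b => simp [sliceε_tmul, TensorProduct.smul_tmul]
      | add a b ha hb => simp only [TensorProduct.tmul_add, map_add, ha, hb]
    rw [key, Coalgebra.rTensor_counit_comul]
    simp
  | add a b ha hb => simp only [map_add, ha, hb]

variable (π : P →ₗ[R] F)

/-- The map whose kernel is the preimage of the image of the coaction. -/
noncomputable def preDefect : P ⊗[R] C →ₗ[R] (F ⊗[R] C) ⧸ LinearMap.range (Comod.coact (k := R) (A := C) (V := F)) :=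
  Submodule.mkQ _ ∘ₗ π.rTensor C

/-- The preimage of the image of the coaction in the cofree comodule. -/
noncomputable def pre : Submodule R (Hoch.Ind R C P) := LinearMap.ker (preDefect (C := C) π)

theorem mem_pre (x : P ⊗[R] C) :
    x ∈ pre (C := C) π ↔ ∃ e : F, Comod.coact (k := R) (A := C) e = π.rTensor C x := by
  show Submodule.mkQ _ (π.rTensor C x) = 0 ↔ _
  rw [Submodule.mkQ_apply, Submodule.Quotient.mk_eq_zero, LinearMap.mem_range]

theorem coact_sliceε {x : P ⊗[R] C} (hx : x ∈ pre (C := C) π) :
    Comod.coact (k := R) (A := C) (π (sliceε (R := R) P x)) = π.rTensor C x := by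
  obtain ⟨e, he⟩ := (mem_pre π x).1 hx
  rw [← sliceε_rTensor, ← he, sliceε_coact]

theorem isSubcomod_pre [Module.Flat R C] : IsSubcomod (k := R) (A := C) (pre (C := C) π) := by
  intro x hx
  refine ((Module.Flat.rTensor_exact C (LinearMap.exact_subtype_ker_map (preDefect (C := C) π))) _).1 ?_
  obtain ⟨e, he⟩ := (mem_pre π x).1 hx
  show (Submodule.mkQ _ ∘ₗ π.rTensor C).rTensor C (Hoch.Ind.coactAux R C P x) = 0
  rw [LinearMap.rTensor_comp, LinearMap.comp_apply]
  refine (congrArg _ ((coactAux_rTensor π x).trans (congrArg _ he.symm))).trans ?_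
  have h1 : Hoch.Ind.coactAux R C F (Comod.coact (k := R) (A := C) e) =
      (Comod.coact (k := R) (A := C) (V := F)).rTensor C (Comod.coact (k := R) (A := C) e) := by
    have h := LinearMap.congr_fun (Comod.coassoc (k := R) (A := C) (V := F)) e
    simp only [LinearMap.comp_apply, LinearEquiv.coe_coe] at h
    show (TensorProduct.assoc R F C C).symm _ = _
    rw [← h, LinearEquiv.symm_apply_apply]
  rw [h1, ← LinearMap.comp_apply, ← LinearMap.rTensor_comp, LinearMap.range_mkQ_comp,
    LinearMap.rTensor_zero, LinearMap.zero_apply]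

/-- The projection of the preimage onto `F`. -/
noncomputable def toBase : Hoch.Ind R C P →ₗ[R] F := π ∘ₗ sliceε (R := R) (C := C) P

theorem toBase_surjective_pre (hπ : Function.Surjective π) (e : F) :
    ∃ x ∈ pre (C := C) π, toBase π x = e := by
  obtain ⟨x, hx⟩ := LinearMap.rTensor_surjective C hπ (Comod.coact (k := R) (A := C) e)
  refine ⟨x, (mem_pre π x).2 ⟨e, hx.symm⟩, ?_⟩
  show π (sliceε (R := R) P x) = e
  rw [← sliceε_rTensor, hx, sliceε_coact]

theorem isComodHom_toBase [Module.Flat R C] {U : Submodule R (Hoch.Ind R C P)}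
    (hU : IsSubcomod (k := R) (A := C) U) (hle : U ≤ pre (C := C) π) :
    @Hoch.IsComodHom R _ C _ _ _ U _ _ (ComodSub.Comod.restr inferInstance U hU) F _ _ _
      (toBase π ∘ₗ U.subtype) := by
  refine LinearMap.ext fun x => ?_
  show Comod.coact (k := R) (A := C) (π (sliceε (R := R) P (x : Hoch.Ind R C P))) =
    (toBase π ∘ₗ U.subtype).rTensor C ((ComodSub.Comod.restr inferInstance U hU).coact x)
  rw [LinearMap.rTensor_comp, LinearMap.comp_apply, ComodSub.restr_coact_coe, coact_sliceε π (hle x.2)]
  show _ = (π ∘ₗ sliceε (R := R) (C := C) P).rTensor C (Hoch.Ind.coactAux R C P (x : Hoch.Ind R C P))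
  rw [LinearMap.rTensor_comp]
  exact congrArg _ (sliceε_rTensor_coactAux _).symm

/-- A finite subcomodule of the preimage mapping onto `F`. -/
theorem exists_fg_pre [IsNoetherianRing R] [Module.Flat R C] [Module.Finite R F]
    (hπ : Function.Surjective π) :
    ∃ U : Submodule R (Hoch.Ind R C P), IsSubcomod (k := R) (A := C) U ∧ U ≤ pre (C := C) π ∧ U.FG ∧
      Function.Surjective (toBase π ∘ₗ U.subtype) := by
  classical
  obtain ⟨s, hs⟩ := Module.Finite.fg_top (R := R) (M := F)
  choose x hx hxe using toBase_surjective_pre (C := C) π hπ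
  let E := pre (C := C) π
  letI cE : Comod R C E := ComodSub.Comod.restr inferInstance E (isSubcomod_pre π)
  obtain ⟨W, hW, hMW, hWfg⟩ := Groth.Agent.S3032.result R C E
    (Submodule.span R ((s.image fun e => (⟨x e, hx e⟩ : E) : Finset E) : Set E)) ⟨_, rfl⟩
  refine ⟨W.map E.subtype, ?_, Submodule.map_subtype_le _ _, hWfg.map _, ?_⟩
  · rintro _ ⟨w, hw, rfl⟩
    obtain ⟨y, hy⟩ := hW w hw
    refine ⟨(E.subtype.restrict fun z hz => Submodule.mem_map_of_mem hz : W →ₗ[R] W.map E.subtype).rTensor C y, ?_⟩
    rw [← LinearMap.comp_apply, ← LinearMap.rTensor_comp]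
    have : (W.map E.subtype).subtype ∘ₗ (E.subtype.restrict fun z hz => Submodule.mem_map_of_mem hz :
        W →ₗ[R] W.map E.subtype) = E.subtype ∘ₗ W.subtype := LinearMap.ext fun z => rfl
    rw [this, LinearMap.rTensor_comp, LinearMap.comp_apply, hy]
    exact ComodSub.restr_coact_coe inferInstance E (isSubcomod_pre π) w
  · rw [← LinearMap.range_eq_top, eq_top_iff, ← hs, Submodule.span_le]
    intro e he
    exact ⟨⟨x e, _, hMW (Submodule.subset_span (Finset.mem_coe.2 (Finset.mem_image_of_mem _ he))), rfl⟩, hxe e⟩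

/-- The preimage is flat when `P` is free and the kernel of `π` is flat. -/
theorem flat_pre [Module.Flat R C] [Module.Free R P] (hπ : Function.Surjective π)
    [Module.Flat R (LinearMap.ker π)] : Module.Flat R (pre (C := C) π) := by
  let E := pre (C := C) π
  let K := LinearMap.ker π
  let pE : E →ₗ[R] F := toBase π ∘ₗ E.subtype
  obtain ⟨σ, hσ⟩ := Module.projective_lifting_property pE π fun e => by
    obtain ⟨x, hx, hxe⟩ := toBase_surjective_pre (C := C) π hπ e
    exact ⟨⟨x, hx⟩, hxe⟩
  let ι : K ⊗[R] C →ₗ[R] P ⊗[R] C := K.subtype.rTensor C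
  have hι : Function.Injective ι :=
    Module.Flat.rTensor_preserves_injective_linearMap _ K.injective_subtype
  have hker : ∀ z : P ⊗[R] C, π.rTensor C z = 0 → z ∈ LinearMap.range ι := fun z hz =>
    ((Module.Flat.rTensor_exact C (LinearMap.exact_subtype_ker_map π)) z).1 hz
  let εE : E →ₗ[R] P := sliceε (R := R) (C := C) P ∘ₗ E.subtype
  have hd : ∀ x : E, π.rTensor C ((x - σ (εE x) : E) : Hoch.Ind R C P) = 0 := by
    intro x
    have h1 := coact_sliceε π x.2
    have h2 := coact_sliceε π (σ (εE x)).2
    have h3 : π (sliceε (R := R) P (σ (εE x) : Hoch.Ind R C P)) = π (εE x) :=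
      LinearMap.congr_fun hσ (εE x)
    rw [h3] at h2
    refine (map_sub (π.rTensor C) _ _).trans (sub_eq_zero.2 ?_)
    exact h1.symm.trans h2
  let d : E →ₗ[R] K ⊗[R] C := (LinearEquiv.ofInjective ι hι).symm.toLinearMap ∘ₗ
    (E.subtype ∘ₗ (LinearMap.id - σ ∘ₗ εE) : E →ₗ[R] P ⊗[R] C).codRestrict _ fun x => hker _ (hd x)
  have hd' : ∀ x : E, ι (d x) = ((x - σ (εE x) : E) : Hoch.Ind R C P) := fun x =>
    congrArg Subtype.val ((LinearEquiv.ofInjective ι hι).apply_symm_apply ⟨_, hker _ (hd x)⟩)
  have hmem : ∀ y : K ⊗[R] C, ι y ∈ E := fun y => by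
    refine (mem_pre π _).2 ⟨0, ?_⟩
    rw [map_zero, ← LinearMap.comp_apply, ← LinearMap.rTensor_comp,
      show π ∘ₗ K.subtype = 0 from LinearMap.ext fun z => z.2, LinearMap.rTensor_zero, LinearMap.zero_apply]
  haveI : Module.Flat R (P × (K ⊗[R] C)) := FlatMisc.flat_prod
  refine Module.Flat.of_retract (εE.prod d) (σ.coprod (LinearMap.codRestrict E ι hmem)) ?_
  refine LinearMap.ext fun x => Subtype.ext ?_
  show @HAdd.hAdd (Hoch.Ind R C P) (Hoch.Ind R C P) _ _ ((σ (εE x) : E) : Hoch.Ind R C P) (ι (d x)) = _
  rw [hd' x]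
  exact add_sub_cancel _ _

/-- Maps out of a double dual into a flat module are determined on the image of the evaluation. -/
theorem ext_bidual [IsNoetherianRing R] {X N : Type u} [AddCommGroup X] [Module R X] [Module.Finite R X]
    [Module.Projective R (Module.Dual R X)] [AddCommGroup N] [Module R N] [Module.Flat R N]
    {f g : Module.Dual R (Module.Dual R X) →ₗ[R] N}
    (h : f ∘ₗ Module.Dual.eval R X = g ∘ₗ Module.Dual.eval R X) : f = g := by
  haveI : Module.Finite R (Module.Dual R X) := inferInstance
  haveI : Module.Finite R (Module.Dual R (Module.Dual R X)) := inferInstance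
  haveI : Module.FinitePresentation R (Module.Dual R (Module.Dual R X)) :=
    Module.finitePresentation_of_finite R _
  obtain ⟨n, a, b, hab⟩ :=
    Module.Flat.exists_factorization_of_finitePresentation (R := R) (f - g)
  have h0 : (b ∘ₗ (a ∘ₗ Module.Dual.eval R X)) = 0 := by
    rw [← LinearMap.comp_assoc, ← hab, LinearMap.sub_comp, h, sub_self]
  obtain ⟨m, a', b', hb, ha'⟩ := Module.Flat.exists_factorization_of_comp_eq_zero_of_free h0
  have key : a' ∘ₗ a = 0 := by
    refine LinearMap.ext fun v => Finsupp.ext fun i => ?_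
    let θ : Module.Dual R (Module.Dual R (Module.Dual R X)) := Finsupp.lapply i ∘ₗ (a' ∘ₗ a)
    obtain ⟨p, hp⟩ := (Module.bijective_dual_eval R (Module.Dual R X)).2 θ
    have hp0 : p = 0 := by
      refine LinearMap.ext fun x => ?_
      have h1 := LinearMap.congr_fun hp (Module.Dual.eval R X x)
      rw [Module.Dual.eval_apply, Module.Dual.eval_apply] at h1
      rw [h1]
      exact congrArg (fun w => w i) (LinearMap.congr_fun ha' x)
    have h2 := LinearMap.congr_fun hp v
    rw [hp0, map_zero, LinearMap.zero_apply] at h2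
    exact h2.symm
  rw [← sub_eq_zero, hab, hb, LinearMap.comp_assoc, key, LinearMap.comp_zero]

/-- A map of a finite module into a flat module extends to the double dual. -/
theorem exists_ext_bidual [IsNoetherianRing R] {X N : Type u} [AddCommGroup X] [Module R X]
    [Module.Finite R X] [AddCommGroup N] [Module R N] [Module.Flat R N] (f : X →ₗ[R] N) :
    ∃ g : Module.Dual R (Module.Dual R X) →ₗ[R] N, g ∘ₗ Module.Dual.eval R X = f := by
  haveI : Module.FinitePresentation R X := Module.finitePresentation_of_finite R X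
  obtain ⟨n, a, b, hab⟩ := Module.Flat.exists_factorization_of_finitePresentation (R := R) f
  let e := (Module.evalEquiv R (Fin n →₀ R))
  refine ⟨b ∘ₗ e.symm.toLinearMap ∘ₗ a.dualMap.dualMap, ?_⟩
  rw [hab]
  refine LinearMap.ext fun x => ?_
  show b (e.symm (a.dualMap.dualMap (Module.Dual.eval R X x))) = b (a x)
  congr 1
  rw [LinearEquiv.symm_apply_eq]
  rfl

/-- The double dual of a finite subcomodule `U` of a flat comodule `E`, with its coaction. -/
theorem exists_bidual_comod [IsNoetherianRing R] [Module.Flat R C] {U E : Type u}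
    [AddCommGroup U] [Module R U] [Module.Finite R U] [Comod R C U]
    [AddCommGroup E] [Module R E] [Module.Flat R E] [Comod R C E]
    [Module.Projective R (Module.Dual R U)]
    (j : U →ₗ[R] E) (hj : Hoch.IsComodHom C j) :
    ∃ (c : Comod R C (Module.Dual R (Module.Dual R U))) (φ : Module.Dual R (Module.Dual R U) →ₗ[R] E),
      φ ∘ₗ Module.Dual.eval R U = j ∧ Comod.coact ∘ₗ φ = φ.rTensor C ∘ₗ c.coact := by
  let V := Module.Dual R (Module.Dual R U)
  haveI : Module.Finite R V := inferInstance
  haveI : Module.Projective R V := inferInstance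
  obtain ⟨φ, hφ⟩ := exists_ext_bidual j
  obtain ⟨γ, hγ⟩ := exists_ext_bidual (N := Module.Dual R (Module.Dual R U) ⊗[R] C)
    ((Module.Dual.eval R U).rTensor C ∘ₗ Comod.coact (k := R) (A := C) (V := U))
  let c : Comod R C V :=
    { coact := γ
      coassoc := by
        refine ext_bidual (X := U) (N := V ⊗[R] (C ⊗[R] C)) ?_
        refine LinearMap.ext fun x => ?_
        exact ComodTens.coassoc_apply_of_hom inferInstance γ (Module.Dual.eval R U) hγ x
      counit_comp := by
        refine ext_bidual (X := U) (N := V ⊗[R] R) ?_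
        refine LinearMap.ext fun x => ?_
        exact ComodTens.counit_apply_of_hom inferInstance γ (Module.Dual.eval R U) hγ x }
  refine ⟨c, φ, hφ, ext_bidual ?_⟩
  show (Comod.coact ∘ₗ φ) ∘ₗ _ = (φ.rTensor C ∘ₗ γ) ∘ₗ _
  rw [LinearMap.comp_assoc, hφ, LinearMap.comp_assoc, hγ, ← LinearMap.comp_assoc, ← LinearMap.rTensor_comp,
    hφ]
  exact hj

/-- A finite comodule whose linear presentation has flat kernel is a quotient of a finite projective
comodule, when duals of finite modules are projective. -/
theorem exists_projective_cover [IsNoetherianRing R] [Module.Flat R C] [Module.Finite R F] [Module.Free R P]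
    (hπ : Function.Surjective π) [Module.Flat R (LinearMap.ker π)]
    (hdual : ∀ (X : Type u) [AddCommGroup X] [Module R X] [Module.Finite R X],
      Module.Projective R (Module.Dual R X)) :
    ∃ (V : Type u) (_ : AddCommGroup V) (_ : Module R V) (_ : Comod R C V) (ψ : V →ₗ[R] F),
      Module.Finite R V ∧ Module.Projective R V ∧ Function.Surjective ψ ∧
        Comod.coact (k := R) (A := C) ∘ₗ ψ = ψ.rTensor C ∘ₗ Comod.coact (k := R) (A := C) (V := V) := by
  haveI := flat_pre (C := C) π hπ
  obtain ⟨U, hU, hle, hfg, hsurj⟩ := exists_fg_pre (C := C) π hπ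
  haveI : Module.Finite R U := Module.Finite.iff_fg.2 hfg
  letI cU : Comod R C U := ComodSub.Comod.restr inferInstance U hU
  letI cE : Comod R C (pre (C := C) π) := ComodSub.Comod.restr inferInstance _ (isSubcomod_pre π)
  let j : U →ₗ[R] pre (C := C) π := Submodule.inclusion hle
  have hj : Hoch.IsComodHom C j := by
    refine LinearMap.ext fun x => Module.Flat.rTensor_preserves_injective_linearMap _
      (pre (C := C) π).injective_subtype ?_
    show _ = (pre (C := C) π).subtype.rTensor C (j.rTensor C (cU.coact x))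
    rw [← LinearMap.comp_apply ((pre (C := C) π).subtype.rTensor C) (j.rTensor C), ← LinearMap.rTensor_comp]
    exact (ComodSub.restr_coact_coe inferInstance _ (isSubcomod_pre π) (j x)).trans
      (ComodSub.restr_coact_coe inferInstance U hU x).symm
  haveI := hdual U
  obtain ⟨c, φ, hφ, hc⟩ := exists_bidual_comod j hj
  haveI : Module.Finite R (Module.Dual R U) := inferInstance
  have hq := isComodHom_toBase π (isSubcomod_pre (C := C) π) le_rfl
  refine ⟨_, inferInstance, inferInstance, c, (toBase π ∘ₗ (pre (C := C) π).subtype) ∘ₗ φ,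
    inferInstance, inferInstance, ?_, ?_⟩
  · intro e
    obtain ⟨x, hx⟩ := hsurj e
    refine ⟨Module.Dual.eval R U x, ?_⟩
    rw [LinearMap.comp_apply, show φ (Module.Dual.eval R U x) = j x from LinearMap.congr_fun hφ x]
    exact hx
  · have hq' : Comod.coact ∘ₗ (toBase π ∘ₗ (pre (C := C) π).subtype) =
        (toBase π ∘ₗ (pre (C := C) π).subtype).rTensor C ∘ₗ cE.coact := hq
    rw [← LinearMap.comp_assoc, hq', LinearMap.comp_assoc, hc, ← LinearMap.comp_assoc, ← LinearMap.rTensor_comp]

end Groth.Agent.ComodRes41
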