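import Groth.Prelude.Def_ComodSub
import Groth.Agent.S3032
import Groth.Agent.ComodLib.MatrixComod
import Mathlib.LinearAlgebra.Matrix.NonsingularInverse
import Mathlib.RingTheory.Adjoin.Basic

/-!
# Matrix corepresentations containing given elements among their coefficients
-/

universe u

open TensorProduct HopfRep

namespace Groth.Agent.ComodRes41

set_option linter.style.haveILetI false

variable {R : Type u} [CommRing R]

/-- The comodule structure on a module having a comodule as a direct summand, trivial on the complement. -/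
@[reducible] noncomputable def extendTrivial {A : Type u} [Ring A] [Bialgebra R A]
    {V L : Type u} [AddCommGroup V] [Module R V] [Comod R A V] [AddCommGroup L] [Module R L]
    (i : V →ₗ[R] L) (p : L →ₗ[R] V) (h : p ∘ₗ i = LinearMap.id) : Comod R A L where
  coact := i.rTensor A ∘ₗ Comod.coact ∘ₗ p + (TensorProduct.mk R L A).flip 1 ∘ₗ (LinearMap.id - i ∘ₗ p)
  coassoc := by
    set γ := i.rTensor A ∘ₗ Comod.coact ∘ₗ p + (TensorProduct.mk R L A).flip 1 ∘ₗ (LinearMap.id - i ∘ₗ p) with hγ
    have hpi : ∀ v, p (i v) = v := fun v => LinearMap.congr_fun h v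
    have hγi : γ ∘ₗ i = i.rTensor A ∘ₗ Comod.coact := by
      refine LinearMap.ext fun v => ?_
      simp [γ, hpi]
    have hγq : ∀ x, γ (x - i (p x)) = (x - i (p x)) ⊗ₜ[R] (1 : A) := fun x => by
      simp [γ, hpi, TensorProduct.sub_tmul]
    refine LinearMap.ext fun x => ?_
    simp only [LinearMap.comp_apply, LinearEquiv.coe_coe]
    have hx : γ x = i.rTensor A (Comod.coact (p x)) + (x - i (p x)) ⊗ₜ[R] (1 : A) := by simp [γ, TensorProduct.sub_tmul]
    rw [hx, map_add, map_add, LinearMap.rTensor_tmul, hγq, map_add, LinearMap.lTensor_tmul,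
      Bialgebra.comul_one, Algebra.TensorProduct.one_def, TensorProduct.assoc_tmul]
    congr 1
    have h0 := ComodTens.coassoc_apply_of_hom inferInstance γ i hγi (p x)
    rwa [show γ (i (p x)) = i.rTensor A (Comod.coact (p x)) from LinearMap.congr_fun hγi (p x)] at h0
  counit_comp := by
    refine LinearMap.ext fun x => ?_
    have hc := LinearMap.congr_fun (Comod.counit_comp (k := R) (A := A) (V := V)) (p x)
    simp only [LinearMap.comp_apply, LinearMap.flip_apply, TensorProduct.mk_apply] at hc
    simp only [LinearMap.comp_apply, LinearMap.add_apply, LinearMap.flip_apply, TensorProduct.mk_apply, map_add,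
      LinearMap.lTensor_tmul, Bialgebra.counit_one, LinearMap.sub_apply, LinearMap.id_apply]
    have hcomm : ∀ z : V ⊗[R] A, (CoalgebraStruct.counit (R := R) (A := A)).lTensor L (i.rTensor A z) =
        i.rTensor R ((CoalgebraStruct.counit (R := R) (A := A)).lTensor V z) := fun z => by
      rw [← LinearMap.comp_apply, LinearMap.lTensor_comp_rTensor, ← LinearMap.rTensor_comp_lTensor,
        LinearMap.comp_apply]
    rw [hcomm, hc, LinearMap.rTensor_tmul, ← TensorProduct.add_tmul, add_sub_cancel]

/-- The coefficients of a comodule with a basis form a comultiplicative matrix. -/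
theorem isComodMatrix_matrixOf {A : Type u} [AddCommGroup A] [Module R A] [Coalgebra R A]
    {X : Type} [Fintype X] [DecidableEq X] {U : Type u} [AddCommGroup U] [Module R U] [Comod R A U]
    (b : Module.Basis X R U) : ComodLib.IsComodMatrix R (ComodLib.matrixOf (A := A) b) where
  comul i j := by
    have h := LinearMap.congr_fun (Comod.coassoc (k := R) (A := A) (V := U)) (b j)
    simp only [LinearMap.comp_apply, LinearEquiv.coe_coe, ComodLib.coact_matrixOf, map_sum,
      LinearMap.rTensor_tmul, LinearMap.lTensor_tmul, TensorProduct.sum_tmul, TensorProduct.assoc_tmul] at h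
    have h2 := congrArg (fun z => TensorProduct.lid R _ ((b.coord i).rTensor _ z)) h
    simpa [Finsupp.single_apply, map_sum, ite_smul, Finset.sum_ite_eq] using h2.symm
  counit i j := by
    have h := LinearMap.congr_fun (Comod.counit_comp (k := R) (A := A) (V := U)) (b j)
    simp only [LinearMap.comp_apply, ComodLib.coact_matrixOf, map_sum, LinearMap.lTensor_tmul,
      LinearMap.flip_apply, TensorProduct.mk_apply] at h
    have h2 := congrArg (fun z => TensorProduct.lid R _ ((b.coord i).rTensor _ z)) h
    simpa [Finsupp.single_apply, map_sum, ite_smul, Finset.sum_ite_eq, eq_comm] using h2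

/-- If the finite comodules inside `A` are quotients of finite projective comodules, every finite subset
of `A` lies in the algebra generated by the coefficients of a matrix corepresentation and the inverse
of its determinant. -/
theorem exists_matrix [IsNoetherianRing R] {A : Type u} [CommRing A] [HopfAlgebra R A] [Module.Flat R A]
    (hcov : ∀ (N : Type u) [AddCommGroup N] [Module R N] [Comod R A N] [Module.Finite R N],
      ∃ (V : Type u) (_ : AddCommGroup V) (_ : Module R V) (_ : Comod R A V) (π : V →ₗ[R] N),
        Module.Finite R V ∧ Module.Projective R V ∧ Function.Surjective π ∧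
        Comod.coact (k := R) (A := A) ∘ₗ π = π.rTensor A ∘ₗ Comod.coact (k := R) (A := A) (V := V))
    (F : Finset A) :
    ∃ (d : ℕ) (a : Matrix (Fin d) (Fin d) A),
      (∀ i j, CoalgebraStruct.comul (R := R) (a i j) = ∑ l, a i l ⊗ₜ[R] a l j) ∧
      (∀ i j, CoalgebraStruct.counit (R := R) (a i j) = if i = j then 1 else 0) ∧
      ∃ u : A, u * a.det = 1 ∧
        (↑F : Set A) ⊆ Algebra.adjoin R (Set.range (fun p : Fin d × Fin d => a p.1 p.2) ∪ {u}) := by
  classical
  obtain ⟨N, hN, hFN, hNfg⟩ := Groth.Agent.S3032.result R A A (Submodule.span R (F : Set A)) ⟨F, rfl⟩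
  letI cN : Comod R A N := ComodSub.Comod.restr inferInstance N hN
  haveI : Module.Finite R N := Module.Finite.iff_fg.2 hNfg
  obtain ⟨V, _, _, cV, π, hVf, hVp, hπ, hπc⟩ := hcov N
  obtain ⟨d, q, hq⟩ := Module.Finite.exists_fin' R V
  obtain ⟨i, hi⟩ := Module.projective_lifting_property q LinearMap.id hq
  letI cL : Comod R A (Fin d → R) := extendTrivial i q hi
  let b := Pi.basisFun R (Fin d)
  have hM := isComodMatrix_matrixOf (A := A) b
  let a : Matrix (Fin d) (Fin d) A := Matrix.of (ComodLib.matrixOf (A := A) b)
  let S := a.map (HopfAlgebraStruct.antipode R (A := A))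
  have hS : a * S = 1 := by
    ext x y
    rw [Matrix.mul_apply, Matrix.one_apply]
    have h := HopfAlgebra.mul_antipode_lTensor_comul_apply (R := R) (a x y)
    rw [show Coalgebra.comul (R := R) (a x y) = ∑ l, a x l ⊗ₜ[R] a l y from hM.comul x y,
      show Coalgebra.counit (R := R) (a x y) = if x = y then (1 : R) else 0 from hM.counit x y] at h
    simp only [map_sum, LinearMap.lTensor_tmul, LinearMap.mul'_apply] at h
    rw [apply_ite (algebraMap R A), map_one, map_zero] at h
    exact h
  refine ⟨d, a, hM.comul, hM.counit, S.det, ?_, ?_⟩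
  · rw [mul_comm, ← Matrix.det_mul, hS, Matrix.det_one]
  intro f hf
  obtain ⟨v, hv⟩ := hπ ⟨f, hFN (Submodule.subset_span hf)⟩
  let χ : V →ₗ[R] A := N.subtype ∘ₗ π
  let φ : V →ₗ[R] R := CoalgebraStruct.counit (R := R) (A := A) ∘ₗ χ
  have hχ : ∀ w, TensorProduct.lid R A (φ.rTensor A (Comod.coact w)) = χ w := by
    intro w
    have h1 : χ.rTensor A (Comod.coact w) = Coalgebra.comul (R := R) (χ w) := by
      rw [show χ.rTensor A = N.subtype.rTensor A ∘ₗ π.rTensor A from LinearMap.rTensor_comp _ _ _,
        LinearMap.comp_apply, ← LinearMap.comp_apply (π.rTensor A), ← hπc]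
      exact ComodSub.restr_coact_coe (inferInstance : Comod R A A) N hN (π w)
    rw [LinearMap.rTensor_comp, LinearMap.comp_apply, h1, Coalgebra.rTensor_counit_comul]
    simp
  have key : f = TensorProduct.lid R A ((φ ∘ₗ q).rTensor A (Comod.coact (k := R) (A := A) (i v))) := by
    have hi' : ∀ w, q (i w) = w := fun w => LinearMap.congr_fun hi w
    have h3 : Comod.coact (k := R) (A := A) (i v) = i.rTensor A (Comod.coact v) := by
      show (i.rTensor A ∘ₗ Comod.coact ∘ₗ q +
        (TensorProduct.mk R (Fin d → R) A).flip 1 ∘ₗ (LinearMap.id - i ∘ₗ q) : (Fin d → R) →ₗ[R] (Fin d → R) ⊗[R] A) (i v) = _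
      simp [hi']
    rw [h3, ← LinearMap.comp_apply ((φ ∘ₗ q).rTensor A), ← LinearMap.rTensor_comp, LinearMap.comp_assoc, hi,
      LinearMap.comp_id, hχ]
    show f = (π v : A)
    rw [hv]
  rw [key, ComodLib.coact_eq_orbit b, map_sum, map_sum]
  refine Subalgebra.sum_mem _ fun x _ => ?_
  rw [LinearMap.rTensor_tmul, TensorProduct.lid_tmul]
  refine Subalgebra.smul_mem _ ?_ _
  unfold ComodLib.orbit
  refine Subalgebra.sum_mem _ fun y _ => Subalgebra.smul_mem _ ?_ _
  exact Algebra.subset_adjoin (Or.inl ⟨(x, y), rfl⟩)

end Groth.Agent.ComodRes41
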